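import Cfsg.Agent.H98.Ore.Defs

/-!
# Scalars are commutators in `SU_n(q)` (task 1887 of S2446, helper734)
-/

set_option autoImplicit false
set_option linter.unusedSectionVars false

namespace Cfsg.Agent.H734.OreT5

open Module Polynomial Cfsg.Agent.H951 Matrix Cfsg.Agent.H98.Ore
open Cfsg.Agent.LieClassical.HermBasic

section ortho

variable {F V : Type*} [Field F] [Fintype F] [AddCommGroup V] [Module F V] [FiniteDimensional F V]
  {q : ℕ} {σ : F →+* F} {B : V → V → F}

theorem herm' (hB : HS q σ B) (u v : V) : B v u = σ (B u v) := by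
  rw [hB.frm.herm u v, one_mul]

/-- A vector of norm one in a nonzero nondegenerate subspace. -/
theorem exists_norm_one (hB : HS q σ B) {W : Submodule F V} (hW : Nd B W) (h0 : W ≠ ⊥) :
    ∃ v ∈ W, B v v = 1 := by
  obtain ⟨w, hw, hww⟩ : ∃ w ∈ W, B w w ≠ 0 := by
    by_contra hcon
    push Not at hcon
    obtain ⟨u, hu, hu0⟩ := (Submodule.ne_bot_iff _).1 h0
    obtain ⟨v, hv, huv⟩ := hW u hu hu0
    obtain ⟨x, hx⟩ := exists_trace_eq hB.card (c := 1) (by rw [one_pow])
    have h1 := hcon (u + σ (x / B u v) • v) (W.add_mem hu (W.smul_mem _ hv))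
    rw [hB.frm.add_left, hB.frm.add_right, hB.frm.add_right, hB.frm.smul_left, hB.frm.smul_left,
      hB.frm.smul_right, hB.frm.smul_right, hcon u hu, hcon v hv, hB.frm.sigma_sq, herm' hB u v] at h1
    rw [← map_mul, div_mul_cancel₀ _ huv, hB.sig, mul_zero, mul_zero, add_zero, zero_add, hx] at h1
    exact one_ne_zero h1
  have hs : (B w w) ^ q = B w w := by rw [← hB.sig, ← herm' hB w w]
  obtain ⟨y, hy0, hy⟩ := exists_norm_eq_ne hB.card hs hww
  refine ⟨y⁻¹ • w, W.smul_mem _ hw, ?_⟩
  rw [hB.frm.smul_left, hB.frm.smul_right, hB.sig, ← hy]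
  have : y ^ q ≠ 0 := pow_ne_zero _ hy0
  rw [inv_pow]
  field_simp

theorem nd_top (hB : HS q σ B) : Nd B (⊤ : Submodule F V) := by
  intro u _ hu0
  by_contra hcon
  push Not at hcon
  exact hu0 (hB.nd u fun v => hcon v Submodule.mem_top)

theorem exists_family (hB : HS q σ B) (m : ℕ) : ∀ W : Submodule F V, Nd B W → finrank F W = m →
    ∃ e : Fin m → V, (∀ i, e i ∈ W) ∧ ∀ i j, B (e i) (e j) = if i = j then 1 else 0 := by
  induction m with
  | zero => exact fun W _ _ => ⟨fun i => i.elim0, fun i => i.elim0, fun i => i.elim0⟩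
  | succ m ih =>
    intro W hW hm
    have h0 : W ≠ ⊥ := by
      rintro rfl
      rw [finrank_bot] at hm
      omega
    obtain ⟨v, hv, hvv⟩ := exists_norm_one hB hW h0
    have hv0 : v ≠ 0 := by
      rintro rfl
      rw [hB.frm.zero_left] at hvv
      exact zero_ne_one hvv
    have hnd : Nd B (Submodule.span F {v}) := by
      intro u hu hu0
      obtain ⟨c, rfl⟩ := Submodule.mem_span_singleton.1 hu
      refine ⟨v, Submodule.mem_span_singleton_self v, ?_⟩
      rw [hB.frm.smul_left, hvv, mul_one]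
      rintro rfl
      rw [zero_smul] at hu0
      exact hu0 rfl
    have hle : Submodule.span F {v} ≤ W := (Submodule.span_singleton_le_iff_mem v W).2 hv
    have h1 := hB.frm.nd_perp_inf hW hnd hle
    have h2 := hB.frm.finrank_perp_inf hnd hle
    rw [finrank_span_singleton hv0, hm] at h2
    obtain ⟨e, he, hee⟩ := ih _ h1 (by omega)
    have hve : ∀ i, B (e i) v = 0 := fun i => (he i).1 v (Submodule.mem_span_singleton_self v)
    refine ⟨Fin.cons v e, ?_, ?_⟩
    · intro i
      refine Fin.cases ?_ (fun i => ?_) i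
      · exact hv
      · exact (he i).2
    · intro i j
      refine Fin.cases ?_ (fun i => ?_) i
      · refine Fin.cases ?_ (fun j => ?_) j
        · simpa using hvv
        · rw [Fin.cons_zero, Fin.cons_succ, if_neg (Fin.succ_ne_zero j).symm]
          exact hB.frm.eq_zero_comm.1 (hve j)
      · refine Fin.cases ?_ (fun j => ?_) j
        · rw [Fin.cons_zero, Fin.cons_succ, if_neg (Fin.succ_ne_zero i)]
          exact hve i
        · rw [Fin.cons_succ, Fin.cons_succ, hee]
          simp only [Fin.succ_inj]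

theorem exists_orthonormal (hB : HS q σ B) :
    ∃ b : Basis (Fin (finrank F V)) F V, ∀ i j, B (b i) (b j) = if i = j then 1 else 0 := by
  obtain ⟨e, -, he⟩ := exists_family hB (finrank F V) ⊤ (nd_top hB) (finrank_top F V)
  have hli : LinearIndependent F e := by
    rw [Fintype.linearIndependent_iff]
    intro g hg i
    have h1 : B (∑ j, g j • e j) (e i) = 0 := by rw [hg, hB.frm.zero_left]
    rw [hB.frm.sum_left] at h1
    simp only [hB.frm.smul_left, he, mul_ite, mul_one, mul_zero, Finset.sum_ite_eq', Finset.mem_univ,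
      if_true] at h1
    exact h1
  refine ⟨basisOfLinearIndependentOfCardEqFinrank' e hli (Fintype.card_fin _), fun i j => ?_⟩
  rw [coe_basisOfLinearIndependentOfCardEqFinrank', he]

theorem form_eq (hB : HS q σ B) {ι : Type*} [Fintype ι] [DecidableEq ι] (b : Basis ι F V)
    (hb : ∀ i j, B (b i) (b j) = if i = j then 1 else 0) (u v : V) :
    B u v = ∑ i, b.repr u i * σ (b.repr v i) := by
  conv_lhs => rw [← b.sum_repr u, ← b.sum_repr v]
  rw [hB.frm.sum_left]
  refine Finset.sum_congr rfl fun i _ => ?_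
  rw [hB.frm.smul_left, hB.frm.sum_right]
  congr 1
  simp only [hB.frm.smul_right, hb, mul_ite, mul_one, mul_zero, Finset.sum_ite_eq, Finset.mem_univ,
    if_true]

/-- Hermitian spaces of the same dimension are isometric. -/
theorem exists_isometry (hB : HS q σ B) {V' : Type*} [AddCommGroup V'] [Module F V']
    [FiniteDimensional F V'] {B' : V' → V' → F} (hB' : HS q σ B') (h : finrank F V = finrank F V') :
    ∃ e : V ≃ₗ[F] V', ∀ u v, B' (e u) (e v) = B u v := by
  obtain ⟨b, hb⟩ := exists_orthonormal hB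
  obtain ⟨b', hb'⟩ := exists_orthonormal hB'
  refine ⟨b.equiv b' (finCongr h), fun u v => ?_⟩
  have key : ∀ u, b.equiv b' (finCongr h) u = ∑ i, b.repr u i • b' (finCongr h i) := by
    intro u
    conv_lhs => rw [← b.sum_repr u]
    rw [map_sum]
    refine Finset.sum_congr rfl fun i _ => ?_
    rw [map_smul, Basis.equiv_apply]
  rw [form_eq hB b hb, key, key, hB'.frm.sum_left]
  refine Finset.sum_congr rfl fun i _ => ?_
  rw [hB'.frm.smul_left, hB'.frm.sum_right]
  congr 1
  simp only [hB'.frm.smul_right, hb', mul_ite, mul_one, mul_zero, (finCongr h).injective.eq_iff,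
    Finset.sum_ite_eq, Finset.mem_univ, if_true]

theorem isComm_transfer (hB : HS q σ B) {V' : Type*} [AddCommGroup V'] [Module F V']
    [FiniteDimensional F V'] {B' : V' → V' → F} (hB' : HS q σ B') (h : finrank F V = finrank F V')
    {l : F} (hc : IsComm B' (l • (1 : End F V'))) : IsComm B (l • (1 : End F V)) := by
  obtain ⟨e, he⟩ := exists_isometry hB hB' h
  obtain ⟨z, x, hz, hx, hdz, hdx, hzx⟩ := hc
  have key : ∀ z : End F V', Isom B' z → Isom B (e.symm.conj z) := by
    intro z hz u v
    rw [LinearEquiv.conj_apply_apply, LinearEquiv.conj_apply_apply, ← he, e.apply_symm_apply,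
      e.apply_symm_apply, LinearEquiv.symm_symm, hz, he]
  have hdet : ∀ z : End F V', LinearMap.det (e.symm.conj z) = LinearMap.det z := by
    intro z
    have := LinearMap.det_conj z e.symm
    rw [LinearEquiv.conj_apply]
    exact this
  refine ⟨e.symm.conj z, e.symm.conj x, key z hz, key x hx, ?_, ?_, ?_⟩
  · rw [hdet, hdz]
  · rw [hdet, hdx]
  · ext u
    have h1 := congrArg e.symm (LinearMap.congr_fun hzx (e u))
    simpa [LinearEquiv.conj_apply_apply] using h1

end ortho

section model

variable {F : Type*} [Field F] [Fintype F] {q : ℕ} {σ : F →+* F} {ι : Type*} [Fintype ι] [DecidableEq ι]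

/-- The form `∑ v p * σ (w (φ p))`. -/
def mB (σ : F →+* F) (φ : Equiv.Perm ι) (v w : ι → F) : F := ∑ p, v p * σ (w (φ p))

theorem mHS (hc : Fintype.card F = q ^ 2) (hs : ∀ a, σ a = a ^ q) (φ : Equiv.Perm ι)
    (hφ : ∀ p, φ (φ p) = p) : HS q σ (mB σ φ) := by
  have hss : ∀ a, σ (σ a) = a := fun a => by
    rw [hs, hs, ← pow_mul, ← pow_two, ← hc, FiniteField.pow_card]
  refine ⟨hc, hs, ⟨?_, ?_, ?_, hss, one_ne_zero⟩, ?_⟩
  · intro u v w
    simp only [mB, Pi.add_apply, add_mul, Finset.sum_add_distrib]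
  · intro a u v
    simp only [mB, Pi.smul_apply, smul_eq_mul, mul_assoc, Finset.mul_sum]
  · intro u v
    rw [one_mul]
    simp only [mB, map_sum, map_mul, hss]
    refine Fintype.sum_equiv φ _ _ fun p => ?_
    rw [hφ, mul_comm]
  · intro u hu
    ext p
    have h1 := hu (Pi.single (φ p) 1)
    rw [mB, Finset.sum_eq_single p] at h1
    · rwa [Pi.single_eq_same, map_one, mul_one] at h1
    · intro b _ hb
      rw [Pi.single_eq_of_ne (fun h => hb (φ.injective h)), map_zero, mul_zero]
    · exact fun h => absurd (Finset.mem_univ _) h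

/-- the diagonal map -/
def mD (δ : ι → F) : End F (ι → F) := Matrix.toLin' (Matrix.diagonal δ)

/-- the weighted permutation -/
def mR (π : Equiv.Perm ι) (t : ι → F) : End F (ι → F) :=
  Matrix.toLin' ((Matrix.diagonal t).submatrix π.symm id)

theorem mD_apply (δ : ι → F) (v : ι → F) (p : ι) : mD δ v p = δ p * v p := by
  rw [mD, Matrix.toLin'_apply, Matrix.mulVec_diagonal]

theorem mR_apply (π : Equiv.Perm ι) (t : ι → F) (v : ι → F) (p : ι) :
    mR π t v p = t (π.symm p) * v (π.symm p) := by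
  rw [mR, Matrix.toLin'_apply]
  change (Matrix.diagonal t).mulVec v (π.symm p) = _
  rw [Matrix.mulVec_diagonal]

theorem model {l : F} (φ π : Equiv.Perm ι) (hφπ : ∀ p, φ (π p) = π (φ p)) (δ t : ι → F)
    (h1 : ∀ p, δ p * σ (δ (φ p)) = 1) (h2 : ∀ p, t p * σ (t (φ p)) = 1)
    (h3 : ∀ p, δ (π p) = l * δ p) (h4 : ∏ p, δ p = 1)
    (h5 : ((Equiv.Perm.sign π : ℤ) : F) * ∏ p, t p = 1) :
    IsComm (mB σ φ) (l • (1 : End F (ι → F))) := by
  refine ⟨mR π t, mD δ, ?_, ?_, ?_, ?_, ?_⟩
  · intro u v
    simp only [mB, mR_apply]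
    refine Fintype.sum_equiv π.symm _ _ fun p => ?_
    have : π.symm (φ p) = φ (π.symm p) := by
      rw [Equiv.symm_apply_eq, ← hφπ, Equiv.apply_symm_apply]
    rw [this, map_mul, mul_mul_mul_comm, h2, one_mul]
  · intro u v
    simp only [mB, mD_apply]
    refine Finset.sum_congr rfl fun p _ => ?_
    rw [map_mul, mul_mul_mul_comm, h1, one_mul]
  · rw [mR, LinearMap.det_toLin', Matrix.det_permute, Equiv.Perm.sign_symm, Matrix.det_diagonal]
    exact h5
  · rw [mD, LinearMap.det_toLin', Matrix.det_diagonal, h4]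
  · refine LinearMap.ext fun v => funext fun p => ?_
    have h6 := h3 (π.symm p)
    rw [Equiv.apply_symm_apply] at h6
    simp only [Module.End.mul_apply, LinearMap.smul_apply, Module.End.one_apply, Pi.smul_apply, smul_eq_mul,
      mR_apply, mD_apply, h6]
    ring

end model

section cyc

variable {F : Type*} [Field F] [Fintype F] {q : ℕ} {σ : F →+* F}

theorem fin_pow_add {n : ℕ} {l : F} (hl : l ^ (n + 1) = 1) (a b : Fin (n + 1)) :
    l ^ ((a + b).val) = l ^ a.val * l ^ b.val := by
  rw [Fin.val_add, ← pow_add]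
  conv_rhs => rw [← Nat.mod_add_div (a.val + b.val) (n + 1), pow_add, pow_mul, hl, one_pow, mul_one]

theorem fin_pow_cast {n : ℕ} {l : F} (hl : l ^ (n + 1) = 1) (m : ℕ) :
    l ^ ((Fin.ofNat (n + 1) m).val) = l ^ m := by
  rw [Fin.val_ofNat]
  conv_rhs => rw [← Nat.mod_add_div m (n + 1), pow_add, pow_mul, hl, one_pow, mul_one]

theorem exists_root {m : ℕ} (hc : Fintype.card F = m + 1) {d : ℕ} (hd : 2 * d ∣ m) :
    ∃ u : F, u ^ d = -1 := by
  classical
  obtain ⟨g, hg⟩ := IsCyclic.exists_ofOrder_eq_natCard (α := Fˣ)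
  obtain ⟨c, hc'⟩ := hd
  have hF : 1 < Fintype.card F := Fintype.one_lt_card
  have hm : 0 < m := by omega
  have hcard : Nat.card Fˣ = m := by
    rw [Nat.card_eq_fintype_card, Fintype.card_units, hc, Nat.add_sub_cancel]
  rw [hcard] at hg
  refine ⟨((g ^ c : Fˣ) : F), ?_⟩
  have hd0 : 0 < d := by
    rcases Nat.eq_zero_or_pos d with rfl | h
    · rw [hc'] at hm; simp at hm
    · exact h
  have hc0 : 0 < c := by
    rcases Nat.eq_zero_or_pos c with rfl | h
    · rw [hc'] at hm; simp at hm
    · exact h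
  have h1 : (((g ^ c : Fˣ) : F) ^ d) ^ 2 = 1 := by
    rw [← pow_mul, Units.val_pow_eq_pow_val, ← pow_mul, show c * (d * 2) = m by rw [hc']; ring, ← Units.val_pow_eq_pow_val, ← hg,
      pow_orderOf_eq_one, Units.val_one]
  rw [pow_two] at h1
  rcases mul_self_eq_one_iff.1 h1 with h | h
  · exfalso
    rw [← Units.val_pow_eq_pow_val, Units.val_eq_one, ← pow_mul] at h
    have h2 := orderOf_dvd_of_pow_eq_one h
    rw [hg, hc'] at h2
    have h3 := Nat.le_of_dvd (Nat.mul_pos hc0 hd0) h2
    have h4 : 0 < c * d := Nat.mul_pos hc0 hd0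
    nlinarith
  · exact h

theorem prod_diag {n k : ℕ} (u l : F) :
    ∏ p : Fin (n + 1) × Fin k, (u * l ^ p.1.val) = (u ^ (n + 1) * l ^ (∑ i ∈ Finset.range (n + 1), i)) ^ k := by
  rw [Fintype.prod_prod_type]
  simp only [Finset.prod_const, Finset.card_univ, Fintype.card_fin]
  rw [Finset.prod_pow, Finset.prod_mul_distrib, Finset.prod_const, Finset.card_univ, Fintype.card_fin,
    Finset.prod_pow_eq_pow_sum, Fin.sum_univ_eq_sum_range (fun i => i) (n + 1)]

theorem prod_t {n k : ℕ} (t : Fin (n + 1) → F) :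
    ∏ p : Fin (n + 1) × Fin k, t p.1 = (∏ i, t i) ^ k := by
  rw [Fintype.prod_prod_type]
  simp only [Finset.prod_const, Finset.card_univ, Fintype.card_fin]
  rw [Finset.prod_pow]

/-- The rotation of `Fin (n+1) × Fin k`. -/
def rot (n k : ℕ) : Equiv.Perm (Fin (n + 1) × Fin k) := Equiv.prodCongrLeft fun _ => finRotate (n + 1)

theorem rot_apply (n k : ℕ) (p : Fin (n + 1) × Fin k) : rot n k p = (p.1 + 1, p.2) := by
  rw [rot, Equiv.prodCongrLeft_apply, finRotate_apply]

theorem sign_rot (n k : ℕ) : Equiv.Perm.sign (rot n k) = ((-1) ^ n) ^ k := by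
  rw [rot, Equiv.Perm.sign_prodCongrLeft, Finset.prod_const, Finset.card_univ, Fintype.card_fin,
    sign_finRotate, Nat.add_sub_cancel]

theorem rot_case {n k : ℕ} {l u : F} (hl : l ^ (n + 1) = 1) (e : Fin (n + 1)) (t : Fin (n + 1) → F)
    (hlq : l * σ l = 1) (h1 : u * σ u * σ (l ^ e.val) = 1)
    (h2 : ∀ i, t i * σ (t (i + e)) = 1)
    (h4 : u ^ (n + 1) * l ^ (∑ i ∈ Finset.range (n + 1), i) = 1)
    (h5 : (-1) ^ n * ∏ i, t i = 1) :
    IsComm (mB σ ((Equiv.prodCongrLeft fun _ => Equiv.addRight e : Equiv.Perm (Fin (n + 1) × Fin k))))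
      (l • (1 : End F (Fin (n + 1) × Fin k → F))) := by
  have hap : ∀ p, (Equiv.prodCongrLeft fun _ => Equiv.addRight e : Equiv.Perm (Fin (n + 1) × Fin k)) p
      = (p.1 + e, p.2) := fun p => by
    rw [Equiv.prodCongrLeft_apply, Equiv.coe_addRight]
  refine model _ (rot n k) (fun p => ?_) (fun p => u * l ^ p.1.val) (fun p => t p.1) (fun p => ?_) (fun p => ?_)
    (fun p => ?_) ?_ ?_
  · rw [hap, hap, rot_apply, rot_apply]
    simp only [Prod.mk.injEq, and_true]
    exact add_right_comm _ _ _
  · rw [hap]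
    simp only [fin_pow_add hl, map_mul]
    have h3 : l ^ p.1.val * σ (l ^ p.1.val) = 1 := by
      rw [map_pow, ← mul_pow, hlq, one_pow]
    calc u * l ^ p.1.val * (σ u * (σ (l ^ p.1.val) * σ (l ^ e.val)))
        = (u * σ u * σ (l ^ e.val)) * (l ^ p.1.val * σ (l ^ p.1.val)) := by ring
      _ = 1 := by rw [h1, h3, one_mul]
  · rw [hap]
    exact h2 _
  · rw [rot_apply]
    simp only [fin_pow_add hl]
    have h3 : l ^ ((1 : Fin (n + 1)).val) = l := by
      have := fin_pow_cast hl 1
      rw [pow_one] at this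
      exact this
    rw [h3]; ring
  · rw [prod_diag, h4, one_pow]
  · rw [sign_rot, prod_t]
    push_cast
    rw [← mul_pow, h5, one_pow]

end cyc

section final

variable {F V : Type*} [Field F] [Fintype F] [AddCommGroup V] [Module F V] [FiniteDimensional F V]
  {q : ℕ} {σ : F →+* F} {B : V → V → F}

/-- The data needed for the rotation model. -/
theorem exists_data (hc : Fintype.card F = q ^ 2) (hs : ∀ a, σ a = a ^ q) {l : F} (hl : l ^ (q + 1) = 1)
    {n : ℕ} (hn : orderOf l = n + 1) :
    ∃ (u : F) (e : Fin (n + 1)) (t : Fin (n + 1) → F), e + e = 0 ∧ u * σ u * σ (l ^ e.val) = 1 ∧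
      (∀ i, t i * σ (t (i + e)) = 1) ∧ u ^ (n + 1) * l ^ (∑ i ∈ Finset.range (n + 1), i) = 1 ∧
      (-1) ^ n * ∏ i, t i = 1 := by
  have hl' : l ^ (n + 1) = 1 := by rw [← hn, pow_orderOf_eq_one]
  have hd : n + 1 ∣ q + 1 := hn ▸ orderOf_dvd_of_pow_eq_one hl
  have hS := Finset.sum_range_id_mul_two (n + 1)
  rw [Nat.add_sub_cancel] at hS
  set S := ∑ i ∈ Finset.range (n + 1), i with hSdef
  have hss : ∀ a, σ (σ a) = a := fun a => by
    rw [hs, hs, ← pow_mul, ← pow_two, ← hc, FiniteField.pow_card]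
  rcases Nat.even_or_odd n with ⟨m, hm⟩ | ⟨m', hm'⟩
  · refine ⟨1, 0, fun _ => 1, add_zero _, ?_, ?_, ?_, ?_⟩
    · simp
    · simp
    · have h2 : S = (n + 1) * m := by
        have : S * 2 = ((n + 1) * m) * 2 := by rw [hS]; conv_lhs => rw [hm]
                                               conv_rhs => rw [hm]
                                               ring
        omega
      rw [h2, pow_mul, hl', one_pow, one_pow, one_mul]
    · rw [Finset.prod_const_one, mul_one, hm, ← two_mul, pow_mul, neg_one_sq, one_pow]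
  · set m := m' + 1 with hmdef
    have hnm : n + 1 = 2 * m := by omega
    have hlm : l ^ m = -1 := by
      have h1 : l ^ m * l ^ m = 1 := by rw [← pow_add, ← two_mul, ← hnm, hl']
      rcases mul_self_eq_one_iff.1 h1 with h | h
      · exfalso
        have h2 := Nat.le_of_dvd (by omega) (orderOf_dvd_of_pow_eq_one h)
        omega
      · exact h
    have hSm : S = m * n := by
      have : S * 2 = (m * n) * 2 := by rw [hS, hnm]; ring
      omega
    have hneg : ((-1 : F)) ^ n = -1 := by
      rw [hm', pow_succ, pow_mul, neg_one_sq, one_pow, one_mul]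
    obtain ⟨c, hcc⟩ := hd
    have hqodd : ∃ r, q = 2 * r + 1 := by
      rw [hnm, mul_assoc] at hcc
      exact ⟨m * c - 1, by omega⟩
    obtain ⟨r, hr⟩ := hqodd
    have hcard : Fintype.card F = (q + 1) * (2 * r) + 1 := by rw [hc, hr]; ring
    obtain ⟨u, hu⟩ := exists_root (d := n + 1) hcard ⟨c * r, by rw [hcc]; ring⟩
    have huq : u * σ u = (-1) ^ c := by
      rw [hs, ← pow_succ', hcc, pow_mul, hu]
    have h4 : u ^ (n + 1) * l ^ S = 1 := by
      rw [hu, hSm, pow_mul, hlm, hneg]; ring
    rcases Nat.even_or_odd c with hce | hco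
    · refine ⟨u, 0, fun i => if i = 0 then -1 else 1, add_zero _, ?_, ?_, h4, ?_⟩
      · rw [huq, hce.neg_one_pow]; simp
      · intro i
        rw [add_zero]
        dsimp only
        split_ifs <;> simp
      · rw [Finset.prod_ite_eq' Finset.univ (0 : Fin (n + 1)) (fun _ => (-1 : F)), hneg]
        simp
    · obtain ⟨τ, hτ0, hτ⟩ := exists_trace_zero_ne hc
      have hστ : σ τ = -τ := by rw [hs]; linear_combination hτ
      set e := Fin.ofNat (n + 1) m with he
      have he0 : e ≠ 0 := by
        rw [he, Ne, Fin.ext_iff, Fin.val_ofNat, Nat.mod_eq_of_lt (by omega)]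
        exact fun h => by simp at h
      have hee : e + e = 0 := by
        rw [Fin.ext_iff, Fin.val_add, he, Fin.val_ofNat, Nat.mod_eq_of_lt (show m < n + 1 by omega), ← two_mul,
          ← hnm, Nat.mod_self]
        rfl
      refine ⟨u, e, fun i => (if i = 0 then τ else 1) * (if i = e then (σ τ)⁻¹ else 1), hee, ?_, ?_, h4, ?_⟩
      · rw [huq, hco.neg_one_pow, he, fin_pow_cast hl', hlm, map_neg, map_one, neg_mul_neg, one_mul]
      · intro i
        have hA : (i + e = 0) ↔ i = e := by
          rw [← hee, add_left_inj]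
        have hB : (i + e = e) ↔ i = 0 := by
          constructor
          · intro h
            have : i + e = 0 + e := by rw [zero_add]; exact h
            exact add_right_cancel this
          · rintro rfl; rw [zero_add]
        dsimp only
        simp only [hA, hB]
        have hσ0 : σ τ ≠ 0 := by rw [hστ]; exact neg_ne_zero.2 hτ0
        by_cases h1 : i = 0
        · subst h1
          rw [if_pos rfl, if_neg he0.symm, if_pos rfl, if_neg he0.symm, mul_one, one_mul, map_inv₀, hss,
            mul_inv_cancel₀ hτ0]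
        · by_cases h2 : i = e
          · subst h2
            rw [if_neg h1, if_pos rfl, if_pos rfl, if_neg h1, one_mul, mul_one, inv_mul_cancel₀ hσ0]
          · rw [if_neg h1, if_neg h2, if_neg h2, if_neg h1, one_mul, one_mul, map_one]
      · rw [Finset.prod_mul_distrib, Finset.prod_ite_eq' Finset.univ (0 : Fin (n + 1)) (fun _ => τ),
          Finset.prod_ite_eq' Finset.univ e (fun _ => (σ τ)⁻¹), hneg, if_pos (Finset.mem_univ _),
          if_pos (Finset.mem_univ _), hστ]
        field_simp

/-- **T5**: a scalar isometry of determinant one is a commutator. -/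
theorem comm_scalar (hB : HS q σ B) {l : F} (hl : l ^ (q + 1) = 1) (hln : l ^ finrank F V = 1) :
    IsComm B (l • (1 : End F V)) := by
  have hpos : 0 < orderOf l := Nat.pos_of_ne_zero fun h => by
    have := orderOf_dvd_of_pow_eq_one hl
    rw [h, Nat.zero_dvd] at this
    omega
  obtain ⟨n, hn⟩ : ∃ n, orderOf l = n + 1 := ⟨orderOf l - 1, by omega⟩
  obtain ⟨k, hk⟩ := orderOf_dvd_of_pow_eq_one hln
  have hl' : l ^ (n + 1) = 1 := by rw [← hn, pow_orderOf_eq_one]
  obtain ⟨u, e, t, hee, h1, h2, h4, h5⟩ := exists_data hB.card hB.sig hl hn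
  refine isComm_transfer hB (mHS hB.card hB.sig
    (Equiv.prodCongrLeft fun _ => Equiv.addRight e : Equiv.Perm (Fin (n + 1) × Fin k)) fun p => ?_) ?_
    (rot_case hl' e t ?_ h1 h2 h4 h5)
  · rw [Equiv.prodCongrLeft_apply, Equiv.prodCongrLeft_apply, Equiv.coe_addRight]
    simp only [add_assoc, hee, add_zero]
  · rw [hk, hn, Module.finrank_fintype_fun_eq_card, Fintype.card_prod, Fintype.card_fin, Fintype.card_fin]
  · rw [hB.sig, ← pow_succ', hl]

end final

end Cfsg.Agent.H734.OreT5
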