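/-
Abstract root subgroups: the natural module of a rank one pair in a non-degenerate class (helper734, S5034).
-/
import Cfsg.Agent.H733.Connected

set_option autoImplicit false
open Cfsg Cfsg.Agent.H731 Cfsg.Agent.H733

namespace Cfsg.Agent.H734

variable {G : Type*} [Group G] {S : Set (Subgroup G)} {A B D E F : Subgroup G}

/-- `(E, F)` is a natural module for the rank one pair `(A, B)`: `⁅E, A⁆ = F`, `⁅F, B⁆ = E` in the commutator case,
`F` commutes with `A` and `E` with `B`. -/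
structure IsNatModule (S : Set (Subgroup G)) (A B E F : Subgroup G) : Prop where
  memE : E ∈ S
  memF : F ∈ S
  rccE : RootCommutatorCase S E A
  rccF : RootCommutatorCase S F B
  eqF : ⁅E, A⁆ = F
  eqE : ⁅F, B⁆ = E

theorem IsNatModule.commEB (h : IsNatModule S A B E F) {e b : G} (he : e ∈ E) (hb : b ∈ B) : e * b = b * e := by
  rw [← h.eqE] at he
  exact rcc_comm_right h.rccF he hb

theorem IsNatModule.commEF (h : IsNatModule S A B E F) {e f : G} (he : e ∈ E) (hf : f ∈ F) : e * f = f * e := by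
  rw [← h.eqE] at he
  exact rcc_comm_left h.rccF he hf

theorem IsNatModule.commFA (h : IsNatModule S A B E F) {f a : G} (hf : f ∈ F) (ha : a ∈ A) : f * a = a * f := by
  rw [← h.eqF] at hf
  exact rcc_comm_right h.rccE hf ha

section setS

variable (hS : IsRootSubgroupSet S)
include hS

/-- From a member `D` commuting with `A` and with `⁅D, B⁆ ∈ S` one gets a natural module. -/
theorem exists_natModule (hA : A ∈ S) (hB : B ∈ S) (h : IsRankOnePair A B) (hD : D ∈ S)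
    (hAD : ⁅A, D⁆ = ⊥) (hDB : RootCommutatorCase S D B) :
    ∃ F : Subgroup G, IsNatModule S A B ⁅D, B⁆ F := by
  have hAD' := commutator_eq_bot_iff_forall.1 hAD
  have hE : ⁅D, B⁆ ∈ S := hDB.1
  have hPA : ∃ A' ∈ S, IsRankOnePair A A' := ⟨B, hB, h⟩
  have hPB : ∃ B' ∈ S, IsRankOnePair B B' := ⟨A, hA, RankOnePair_symm h⟩
  have hBD := rootCommutatorCase_symm hDB
  -- `A` and `E` are in the commutator case
  have hEA : RootCommutatorCase S ⁅D, B⁆ A := by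
    rcases hS.pair _ hE A hA with h1 | h1 | h1
    · exfalso
      rw [commutator_eq_bot_iff_forall] at h1
      obtain ⟨e, he, he1⟩ := member_exists_ne_one hS hE
      obtain ⟨b, hb, hb1⟩ := member_exists_ne_one hS hB
      have hz : e ∈ Subgroup.centralizer ((B ⊔ A : Subgroup G) : Set G) :=
        mem_centralizer_sup.2 ⟨fun b hb => rcc_comm_right hDB he hb, fun a ha => h1 e he a ha⟩
      have he' : e ∈ ⁅B, D⁆ := by rw [Subgroup.commutator_comm]; exact he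
      obtain ⟨d, hd, h2⟩ := mul_mem_conjBy hBD hb hb1 he'
      rw [← rcc_comm_right hDB he hb] at h2
      exact central_translate hS hA (RankOnePair_symm h) hz he1 hb hb1 (hS.conj_mem B hB d) h2
    · exfalso
      obtain ⟨e, he, he1⟩ := member_exists_ne_one hS hE
      obtain ⟨d, hd, hd1⟩ := member_exists_ne_one hS hD
      have hz : d ∈ Subgroup.centralizer ((⁅D, B⁆ ⊔ A : Subgroup G) : Set G) :=
        mem_centralizer_sup.2 ⟨fun e he => (rcc_comm_left hDB he hd).symm, fun a ha => (hAD' a ha d hd).symm⟩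
      obtain ⟨b, hb, h2⟩ := mul_mem_conjBy hDB hd hd1 he
      exact central_translate hS hA h1 hz hd1 he he1 (hS.conj_mem D hD b) h2
    · exact h1
  refine ⟨⁅⁅D, B⁆, A⁆, ?_⟩
  have hF : ⁅⁅D, B⁆, A⁆ ∈ S := hEA.1
  -- the element `z = d f`
  obtain ⟨a, ha, ha1⟩ := rankOne_exists_left h
  obtain ⟨b, hb, hb1, hab⟩ := h.cond_left a ha ha1
  obtain ⟨d, hd, hd1⟩ := member_exists_ne_one hS hD
  obtain ⟨e, he'⟩ : ∃ e, e = d⁻¹ * b⁻¹ * d * b := ⟨_, rfl⟩
  have he : e ∈ ⁅D, B⁆ := by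
    have := comm_mem (A := D) (B := B) (D.inv_mem hd) (B.inv_mem hb)
    rw [he']; simpa using this
  have he1 : e ≠ 1 := by
    intro h1
    rw [h1] at he'
    have h2 : d * b = b * d := by
      have h3 : b * d * (d⁻¹ * b⁻¹ * d * b) = b * d * 1 := by rw [← he']
      simpa [mul_assoc] using h3
    rcases rcc_commute_elem' hS hB hPB hDB hd hb h2 with h3 | h3
    · exact hd1 h3
    · exact hb1 h3
  obtain ⟨f, hf'⟩ : ∃ f, f = e⁻¹ * a * e * a⁻¹ := ⟨_, rfl⟩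
  have hf : f ∈ ⁅⁅D, B⁆, A⁆ := by
    have := comm_mem (A := ⁅D, B⁆) (B := A) (Subgroup.inv_mem _ he) ha
    rw [hf']; simpa using this
  have hf1 : f ≠ 1 := by
    intro h1
    rw [h1] at hf'
    have h2 : e * a = a * e := by
      have h3 : e * 1 * a = e * (e⁻¹ * a * e * a⁻¹) * a := by rw [← hf']
      simpa [mul_assoc] using h3
    rcases rcc_commute_elem' hS hA hPA hEA he ha h2 with h3 | h3
    · exact he1 h3
    · exact ha1 h3
  have hde : b⁻¹ * d * b = d * e := by rw [he']; simp [mul_assoc]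
  have hef : a * e * a⁻¹ = e * f := by rw [hf']; simp [mul_assoc]
  -- `b⁻¹ d b` commutes with `b⁻¹ A b = a⁻¹ B a`
  have hz : ∀ β ∈ B, (d * f) * β = β * (d * f) := by
    intro β hβ
    have h1 : a⁻¹ * β * a ∈ conjBy A b⁻¹ := by
      rw [hab, mem_conjBy_inv]
      simpa [mul_assoc] using hβ
    rw [mem_conjBy_inv] at h1
    have h2 := hAD' _ h1 d hd
    -- (b a⁻¹ β a b⁻¹) d = d (b a⁻¹ β a b⁻¹)
    have h3 : (a⁻¹ * β * a) * (b⁻¹ * d * b) = (b⁻¹ * d * b) * (a⁻¹ * β * a) := by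
      have h4 : b⁻¹ * (b * (a⁻¹ * β * a) * b⁻¹ * d) * b = b⁻¹ * (d * (b * (a⁻¹ * β * a) * b⁻¹)) * b := by rw [h2]
      simpa [mul_assoc] using h4
    rw [hde] at h3
    have h5 : a * (d * e) * a⁻¹ = e * (d * f) := by
      have h6 : a * d * a⁻¹ = d := by rw [hAD' a ha d hd]; simp
      calc a * (d * e) * a⁻¹ = (a * d * a⁻¹) * (a * e * a⁻¹) := by simp [mul_assoc]
        _ = d * e * f := by rw [h6, hef, mul_assoc]
        _ = e * d * f := by rw [rcc_comm_left hDB he hd]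
        _ = e * (d * f) := by rw [mul_assoc]
    have h7 : β * (e * (d * f)) = (e * (d * f)) * β := by
      rw [← h5]
      have h8 : a * ((a⁻¹ * β * a) * (d * e)) * a⁻¹ = a * ((d * e) * (a⁻¹ * β * a)) * a⁻¹ := by rw [h3]
      simpa [mul_assoc] using h8
    have h9 := rcc_comm_right hDB he hβ
    have h10 : e * (β * (d * f)) = e * ((d * f) * β) := by
      rw [← mul_assoc, h9, mul_assoc, h7, mul_assoc]
    exact (mul_left_cancel h10).symm
  -- commutators of `f` with `B`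
  have hcomm : ∀ β ∈ B, f * β * f⁻¹ * β⁻¹ = d⁻¹ * β * d⁻¹⁻¹ * β⁻¹ := by
    intro β hβ
    have h1 := hz β hβ
    have h2 : f * β * f⁻¹ = d⁻¹ * ((d * f) * β * (d * f)⁻¹) * d := by simp [mul_assoc]
    rw [h2, h1]
    simp [mul_assoc]
  have hcommE : ∀ β ∈ B, f * β * f⁻¹ * β⁻¹ ∈ ⁅D, B⁆ := by
    intro β hβ
    rw [hcomm β hβ]
    exact comm_mem (D.inv_mem hd) hβ
  have hFB : RootCommutatorCase S ⁅⁅D, B⁆, A⁆ B := by
    rcases hS.pair _ hF B hB with h1 | h1 | h1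
    · exfalso
      rw [commutator_eq_bot_iff_forall] at h1
      have h2 := hcomm b hb
      rw [h1 f hf b hb] at h2
      have h3 : d⁻¹ * b = b * d⁻¹ := by
        have h4 : b * f * f⁻¹ * b⁻¹ = 1 := by simp
        rw [h4] at h2
        rw [inv_inv] at h2
        have h5 : 1 * b * d⁻¹ = (d⁻¹ * b * d * b⁻¹) * b * d⁻¹ := by rw [← h2]
        simpa [mul_assoc] using h5.symm
      rcases rcc_commute_elem' hS hB hPB hDB (D.inv_mem hd) hb h3 with h4 | h4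
      · exact hd1 (inv_eq_one.1 h4)
      · exact hb1 h4
    · exfalso
      exact rankOne_comm_not_comm hS hB h1 hf hf1 hb hb1 hb hb1 (rcc_comm_right hDB (hcommE b hb) hb)
    · exact h1
  refine ⟨hE, hF, hEA, hFB, rfl, ?_⟩
  rw [← hFB.2.2.1 f hf hf1, ← hDB.2.2.1 d⁻¹ (D.inv_mem hd) (inv_ne_one.2 hd1)]
  congr 1
  ext x
  constructor
  · rintro ⟨β, hβ, rfl⟩
    exact ⟨β, hβ, (hcomm β hβ).symm⟩
  · rintro ⟨β, hβ, rfl⟩
    exact ⟨β, hβ, hcomm β hβ⟩

/-- The action of partners `a ↔ b` on the natural module: for `d ∈ F` and `e = d⁻¹ b⁻¹ d b ∈ E` one has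
`b⁻¹ d b = d e` and `a e a⁻¹ = e d⁻¹`. -/
theorem natModule_action (hA : A ∈ S) (hB : B ∈ S) (h : IsRankOnePair A B) (hN : IsNatModule S A B E F)
    {a b : G} (ha : a ∈ A) (hab : conjBy A b⁻¹ = conjBy B a⁻¹) (hb : b ∈ B) {d : G} (hd : d ∈ F) :
    d⁻¹ * b⁻¹ * d * b ∈ E ∧ a * (d⁻¹ * b⁻¹ * d * b) * a⁻¹ = (d⁻¹ * b⁻¹ * d * b) * d⁻¹ := by
  have hPB : ∃ B' ∈ S, IsRankOnePair B B' := ⟨A, hA, RankOnePair_symm h⟩
  have he : d⁻¹ * b⁻¹ * d * b ∈ E := by
    have := comm_mem (A := F) (B := B) (F.inv_mem hd) (B.inv_mem hb)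
    rw [hN.eqE] at this
    simpa using this
  refine ⟨he, ?_⟩
  obtain ⟨e, he'⟩ : ∃ e, e = d⁻¹ * b⁻¹ * d * b := ⟨_, rfl⟩
  rw [← he'] at he ⊢
  obtain ⟨f, hf'⟩ : ∃ f, f = e⁻¹ * a * e * a⁻¹ := ⟨_, rfl⟩
  have hf : f ∈ F := by
    have := comm_mem (A := E) (B := A) (Subgroup.inv_mem _ he) ha
    rw [hN.eqF] at this
    rw [hf']; simpa using this
  have hde : b⁻¹ * d * b = d * e := by rw [he']; simp [mul_assoc]
  have hef : a * e * a⁻¹ = e * f := by rw [hf']; simp [mul_assoc]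
  have hz : ∀ β ∈ B, (d * f) * β = β * (d * f) := by
    intro β hβ
    have h1 : a⁻¹ * β * a ∈ conjBy A b⁻¹ := by
      rw [hab, mem_conjBy_inv]
      simpa [mul_assoc] using hβ
    rw [mem_conjBy_inv] at h1
    have h2 := (hN.commFA hd h1).symm
    have h3 : (a⁻¹ * β * a) * (b⁻¹ * d * b) = (b⁻¹ * d * b) * (a⁻¹ * β * a) := by
      have h4 : b⁻¹ * (b * (a⁻¹ * β * a) * b⁻¹ * d) * b = b⁻¹ * (d * (b * (a⁻¹ * β * a) * b⁻¹)) * b := by rw [h2]
      simpa [mul_assoc] using h4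
    rw [hde] at h3
    have h5 : a * (d * e) * a⁻¹ = e * (d * f) := by
      have h6 : a * d * a⁻¹ = d := by rw [← hN.commFA hd ha]; simp
      calc a * (d * e) * a⁻¹ = (a * d * a⁻¹) * (a * e * a⁻¹) := by simp [mul_assoc]
        _ = d * e * f := by rw [h6, hef, mul_assoc]
        _ = e * d * f := by rw [hN.commEF he hd]
        _ = e * (d * f) := by rw [mul_assoc]
    have h7 : β * (e * (d * f)) = (e * (d * f)) * β := by
      rw [← h5]
      have h8 : a * ((a⁻¹ * β * a) * (d * e)) * a⁻¹ = a * ((d * e) * (a⁻¹ * β * a)) * a⁻¹ := by rw [h3]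
      simpa [mul_assoc] using h8
    have h9 := hN.commEB he hβ
    have h10 : e * (β * (d * f)) = e * ((d * f) * β) := by
      rw [← mul_assoc, h9, mul_assoc, h7, mul_assoc]
    exact (mul_left_cancel h10).symm
  obtain ⟨β, hβ, hβ1⟩ := member_exists_ne_one hS hB
  have hdf : d * f = 1 := by
    rcases rcc_commute_elem' hS hB hPB hN.rccF (F.mul_mem hd hf) hβ (hz β hβ) with h1 | h1
    · exact h1
    · exact absurd h1 hβ1
  have hf2 : f = d⁻¹ := eq_inv_of_mul_eq_one_right hdf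
  rw [hef, hf2]

/-- A rank one pair with a natural module is special. -/
theorem natModule_special (hA : A ∈ S) (hB : B ∈ S) (h : IsRankOnePair A B) (hN : IsNatModule S A B E F) :
    IsSpecialRankOnePair A B := by
  refine ⟨h, ?_⟩
  intro a ha ha1 b hb hb1 hab
  have hPA : ∃ A' ∈ S, IsRankOnePair A A' := ⟨B, hB, h⟩
  have hPB : ∃ B' ∈ S, IsRankOnePair B B' := ⟨A, hA, RankOnePair_symm h⟩
  -- u and v act identically on E
  have hact : ∀ e ∈ E, (b⁻¹ * a * b) * e * (b⁻¹ * a * b)⁻¹ = (a⁻¹ * b⁻¹ * a) * e * (a⁻¹ * b⁻¹ * a)⁻¹ := by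
    intro e he
    -- write e = d⁻¹ b⁻¹ d b
    have he0 : e ∈ ⁅F, B⁆ := by rw [hN.eqE]; exact he
    obtain ⟨d', hd', h1⟩ := rcc_exists_left hN.rccF (B.inv_mem hb) (inv_ne_one.2 hb1) he0
    obtain ⟨d, hd, hdd⟩ : ∃ d ∈ F, d' = d⁻¹ := ⟨d'⁻¹, F.inv_mem hd', by simp⟩
    have h2 : d⁻¹ * b⁻¹ * d * b = e := by rw [← h1, hdd]; simp
    obtain ⟨-, h4⟩ := natModule_action hS hA hB h hN ha hab hb hd
    rw [h2] at h4
    -- h4 : a e a⁻¹ = e d⁻¹
    have hbe : b * e * b⁻¹ = e := by rw [← hN.commEB he hb]; simp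
    have hbd : b⁻¹ * d⁻¹ * b = e⁻¹ * d⁻¹ := by
      rw [← h2]; simp [mul_assoc]
    have hbe' : b⁻¹ * e * b = e := by rw [mul_assoc, hN.commEB he hb]; simp
    have had : a⁻¹ * d⁻¹ * a = d⁻¹ := by
      rw [mul_assoc, hN.commFA (F.inv_mem hd) ha]; simp
    have hl : (b⁻¹ * a * b) * e * (b⁻¹ * a * b)⁻¹ = d⁻¹ := by
      calc (b⁻¹ * a * b) * e * (b⁻¹ * a * b)⁻¹ = b⁻¹ * (a * (b * e * b⁻¹) * a⁻¹) * b := by simp [mul_assoc]
        _ = b⁻¹ * (e * d⁻¹) * b := by rw [hbe, h4]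
        _ = (b⁻¹ * e * b) * (b⁻¹ * d⁻¹ * b) := by simp [mul_assoc]
        _ = d⁻¹ := by rw [hbe', hbd]; simp
    have hr : (a⁻¹ * b⁻¹ * a) * e * (a⁻¹ * b⁻¹ * a)⁻¹ = d⁻¹ := by
      calc (a⁻¹ * b⁻¹ * a) * e * (a⁻¹ * b⁻¹ * a)⁻¹ = a⁻¹ * (b⁻¹ * (a * e * a⁻¹) * b) * a := by simp [mul_assoc]
        _ = a⁻¹ * ((b⁻¹ * e * b) * (b⁻¹ * d⁻¹ * b)) * a := by rw [h4]; simp [mul_assoc]
        _ = a⁻¹ * d⁻¹ * a := by rw [hbe', hbd]; simp
        _ = d⁻¹ := had
    rw [hl, hr]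
  -- w = v⁻¹ u ∈ conjBy A b⁻¹
  have hu : b⁻¹ * a * b ∈ conjBy A b⁻¹ := by rw [mem_conjBy_inv]; simpa [mul_assoc] using ha
  have hv : a⁻¹ * b⁻¹ * a ∈ conjBy A b⁻¹ := by
    rw [hab, mem_conjBy_inv]; simpa [mul_assoc] using hb
  have hw : (a⁻¹ * b⁻¹ * a)⁻¹ * (b⁻¹ * a * b) ∈ conjBy A b⁻¹ := Subgroup.mul_mem _ (Subgroup.inv_mem _ hv) hu
  rw [mem_conjBy_inv] at hw
  obtain ⟨e, he, he1⟩ := member_exists_ne_one hS hN.memE
  have hwe : e * (b * ((a⁻¹ * b⁻¹ * a)⁻¹ * (b⁻¹ * a * b)) * b⁻¹) =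
      (b * ((a⁻¹ * b⁻¹ * a)⁻¹ * (b⁻¹ * a * b)) * b⁻¹) * e := by
    have h1 := hact e he
    have h2 : e * ((a⁻¹ * b⁻¹ * a)⁻¹ * (b⁻¹ * a * b)) = ((a⁻¹ * b⁻¹ * a)⁻¹ * (b⁻¹ * a * b)) * e := by
      have h3 : (a⁻¹ * b⁻¹ * a)⁻¹ * ((a⁻¹ * b⁻¹ * a) * e * (a⁻¹ * b⁻¹ * a)⁻¹) * (b⁻¹ * a * b) =
          (a⁻¹ * b⁻¹ * a)⁻¹ * ((b⁻¹ * a * b) * e * (b⁻¹ * a * b)⁻¹) * (b⁻¹ * a * b) := by rw [h1]
      simpa [mul_assoc] using h3
    have hb1 := hN.commEB he hb
    have hb2 := hN.commEB he (B.inv_mem hb)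
    calc e * (b * ((a⁻¹ * b⁻¹ * a)⁻¹ * (b⁻¹ * a * b)) * b⁻¹)
        = (e * b) * ((a⁻¹ * b⁻¹ * a)⁻¹ * (b⁻¹ * a * b)) * b⁻¹ := by simp only [mul_assoc]
      _ = b * (e * ((a⁻¹ * b⁻¹ * a)⁻¹ * (b⁻¹ * a * b))) * b⁻¹ := by rw [hb1]; simp only [mul_assoc]
      _ = b * ((a⁻¹ * b⁻¹ * a)⁻¹ * (b⁻¹ * a * b)) * (e * b⁻¹) := by rw [h2]; simp only [mul_assoc]
      _ = (b * ((a⁻¹ * b⁻¹ * a)⁻¹ * (b⁻¹ * a * b)) * b⁻¹) * e := by rw [hb2]; simp only [mul_assoc]
  rcases rcc_commute_elem' hS hA hPA hN.rccE he hw hwe with h5 | h5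
  · exact absurd h5 he1
  · have h6 : (a⁻¹ * b⁻¹ * a)⁻¹ * (b⁻¹ * a * b) = 1 := by
      have h7 : b⁻¹ * (b * ((a⁻¹ * b⁻¹ * a)⁻¹ * (b⁻¹ * a * b)) * b⁻¹) * b = b⁻¹ * 1 * b := by rw [h5]
      have h8 : b⁻¹ * (b * ((a⁻¹ * b⁻¹ * a)⁻¹ * (b⁻¹ * a * b)) * b⁻¹) * b =
          (a⁻¹ * b⁻¹ * a)⁻¹ * (b⁻¹ * a * b) := by simp only [mul_assoc, inv_mul_cancel_left, inv_mul_cancel, mul_one]
      rw [← h8, h7]; simp
    exact (inv_mul_eq_one.1 h6).symm

/-- In a class of abstract root subgroups in which the commutator case and rank one pairs occur: for each rank one pair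
`(A, B)` some line partner `C` of `A` has `⁅C, B⁆ ∈ S`. -/
theorem exists_line_commutator (hcl : IsConjClassOfSubgroups S) (hP : ∃ A ∈ S, ∃ B ∈ S, IsRankOnePair A B)
    (hR : ∃ A ∈ S, ∃ B ∈ S, RootCommutatorCase S A B) (hA : A ∈ S) (hB : B ∈ S) (h : IsRankOnePair A B) :
    ∃ C ∈ linePartners S A, RootCommutatorCase S C B := by
  have hF : ∀ A ∈ S, ∃ B ∈ S, IsRankOnePair A B := fun A hA => class_exists_partner hS hcl hP hA
  obtain ⟨X0, hX0, Y0, hY0, h0⟩ := hR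
  obtain ⟨g, hg⟩ := hcl.2 _ h0.1 A hA
  obtain ⟨X, hX'⟩ : ∃ X, X = conjBy X0 g := ⟨_, rfl⟩
  obtain ⟨Y, hY'⟩ : ∃ Y, Y = conjBy Y0 g := ⟨_, rfl⟩
  have hX : X ∈ S := by rw [hX']; exact hS.conj_mem X0 hX0 g
  have hXY : RootCommutatorCase S X Y := by rw [hX', hY']; exact rootCommutatorCase_conj hS.conj_mem h0 g
  have hXYA : ⁅X, Y⁆ = A := by rw [hg, hX', hY', conjBy_commutator]
  have hmem := rcc_membersIn hS hX (hF X hX) hXY
  have hline := rcc_linePartners hS hX (hF X hX) hXY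
  rw [hXYA] at hmem hline
  have hYA : ∀ y ∈ Y, conjBy A y = A := by
    intro y hy
    refine conjBy_of_commute fun a ha => ?_
    rw [← hXYA] at ha
    exact (rcc_comm_right hXY ha hy).symm
  have hXA : ∀ x ∈ X, ∀ a ∈ A, x * a = a * x := by
    intro x hx a ha
    rw [← hXYA] at ha
    exact (rcc_comm_left hXY ha hx).symm
  by_cases hcase : ∀ y ∈ Y, IsRankOnePair (conjBy X y) B
  · exfalso
    have hXB : IsRankOnePair X B := by
      have := hcase 1 Y.one_mem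
      rwa [conjBy_one] at this
    obtain ⟨a, ha, ha1⟩ := rankOne_exists_left h
    obtain ⟨b, hb, hb1, hab⟩ := h.cond_left a ha ha1
    obtain ⟨x, hx, hx1, hxb⟩ := hXB.cond_right b hb hb1
    have hXAcomm : ⁅X, A⁆ = ⊥ := commutator_eq_bot_iff_forall.2 hXA
    have h1 : ⁅conjBy B x⁻¹, conjBy B a⁻¹⁆ = ⊥ := by
      rw [hxb, ← hab]
      exact commutator_conjBy_eq_bot_iff.2 hXAcomm
    have h2 : ⁅B, conjBy B (x * a⁻¹)⁆ = ⊥ := by
      have := (commutator_conjBy_eq_bot_iff (g := x)).2 h1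
      rwa [conjBy_conjBy, conjBy_conjBy, mul_inv_cancel, conjBy_one] at this
    have hXneA : X ≠ A := hline.1.2.1
    have hinf : X ⊓ A = ⊥ := by
      obtain ⟨X', hX', hXX'⟩ := hF X hX
      rcases inf_eq_bot_or_eq hS hX hX' hXX' hA with h3 | h3
      · exact h3
      · exact absurd h3 hXneA
    have hxa : x * a⁻¹ ≠ 1 := by
      intro h3
      rw [mul_inv_eq_one] at h3
      have h4 : x ∈ X ⊓ A := ⟨hx, by rw [h3]; exact ha⟩
      rw [hinf] at h4
      exact hx1 (Subgroup.mem_bot.1 h4)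
    obtain ⟨D, hD, hxD⟩ := hline.2.2.1 (x * a⁻¹)
      (Subgroup.mul_mem _ (Subgroup.mem_sup_right hx) (Subgroup.mem_sup_left (A.inv_mem ha))) hxa
    rw [sup_comm, hmem] at hD
    rcases hD with ⟨y, hy, hyD⟩ | hD
    · have hDB := hcase y hy
      have hyD' : conjBy X y = D := hyD
      rw [hyD'] at hDB
      have hBm := right_mem_unipotentSubgroups hDB
      have hB' : conjBy B (x * a⁻¹) ∈ unipotentSubgroups D B :=
        conjBy_mem_unipotentSubgroups hBm (Subgroup.mem_sup_left hxD)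
      have hne : B ≠ conjBy B (x * a⁻¹) := fun h3 => hxa (rankOne_eq_one hDB hxD h3.symm)
      exact rankOne_not_commute (rankOne_pair_of_mem hDB hBm hB' hne) h2
    · rw [Set.mem_singleton_iff] at hD
      rw [hD] at hxD
      have h4 : x ∈ X ⊓ A := ⟨hx, by
        have := A.mul_mem hxD ha
        simpa using this⟩
      rw [hinf] at h4
      exact hx1 (Subgroup.mem_bot.1 h4)
  · push Not at hcase
    obtain ⟨y, hy, hnot⟩ := hcase
    have hCl : conjBy X y ∈ linePartners S A := by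
      have := linePartners_conj hS hline y
      rwa [hYA y hy] at this
    refine ⟨conjBy X y, hCl, ?_⟩
    rcases hS.pair _ hCl.1.1 B hB with h1 | h1 | h1
    · exfalso
      rw [commutator_eq_bot_iff_forall] at h1
      have hCA := commutator_eq_bot_iff_forall.1 hCl.1.2.2
      obtain ⟨c, hc, hc1⟩ := member_exists_ne_one hS hCl.1.1
      obtain ⟨a, ha, ha1⟩ := member_exists_ne_one hS hA
      have hz : c ∈ Subgroup.centralizer ((A ⊔ B : Subgroup G) : Set G) :=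
        mem_centralizer_sup.2 ⟨fun a ha => (hCA a ha c hc).symm, fun b hb => h1 c hc b hb⟩
      have hca : c * a ≠ 1 := by
        intro h2
        have h3 : a = c⁻¹ := eq_inv_of_mul_eq_one_right h2
        obtain ⟨A', hA', hAA'⟩ := hF A hA
        have h4 := eq_of_mem_mem hS hA hA' hAA' hCl.1.1 ha ha1 (by rw [h3]; exact Subgroup.inv_mem _ hc)
        exact hCl.1.2.1 h4.symm
      obtain ⟨D, hD, hcD⟩ := hCl.2.2.1 (c * a)
        (Subgroup.mul_mem _ (Subgroup.mem_sup_right hc) (Subgroup.mem_sup_left ha)) hca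
      exact central_translate hS hB h hz hc1 ha ha1 hD.1 hcD
    · exact absurd h1 hnot
    · exact h1

/-- In a class of abstract root subgroups in which the commutator case and rank one pairs occur every rank one pair
has a natural module. -/
theorem exists_natModule_of_class (hcl : IsConjClassOfSubgroups S) (hP : ∃ A ∈ S, ∃ B ∈ S, IsRankOnePair A B)
    (hR : ∃ A ∈ S, ∃ B ∈ S, RootCommutatorCase S A B) (hA : A ∈ S) (hB : B ∈ S) (h : IsRankOnePair A B) :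
    ∃ E F : Subgroup G, IsNatModule S A B E F := by
  obtain ⟨C, hC, hCB⟩ := exists_line_commutator hS hcl hP hR hA hB h
  obtain ⟨F, hF⟩ := exists_natModule hS hA hB h hC.1.1 hC.1.2.2 hCB
  exact ⟨_, F, hF⟩

end setS

end Cfsg.Agent.H734
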