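import Cfsg.Agent.H161.PalForm

/-!
# Irreducible abelian groups preserving an alternating form (task 1728, helper734)
-/

set_option autoImplicit false
set_option linter.style.haveILetI false

namespace Cfsg.Agent.H734.Symp

universe u v

theorem add_symp {A : Type*} [AddCommGroup A] [Finite A] [Nontrivial A] {y : ℕ} (hy : y.Prime)
    (hA : ∀ a : A, y • a = 0) {D : Type*} [CommGroup D] [Finite D] (φ : D →* AddMonoid.End A)
    (hinj : Function.Injective φ)
    (hirr : ∀ W : AddSubgroup A, (∀ d, ∀ w ∈ W, φ d w ∈ W) → W = ⊥ ∨ W = ⊤)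
    {C : Type*} [AddCommGroup C] (f : A →+ A →+ C) (halt : ∀ a, f a a = 0)
    (hinv : ∀ d a b, f (φ d a) (φ d b) = f a b) (hne : f ≠ 0) :
    ∃ k : ℕ, Nat.card A = y ^ (2 * k) ∧ Nat.card D ∣ y ^ k + 1 := by
  classical
  haveI : Fact y.Prime := ⟨hy⟩
  -- the order of `A`
  obtain ⟨n, hn⟩ : ∃ n : ℕ, Nat.card A = y ^ n := by
    have h1 : IsPGroup y (Multiplicative A) := fun a =>
      ⟨1, by rw [pow_one]; exact congrArg Multiplicative.ofAdd (hA a.toAdd)⟩
    obtain ⟨n, hn⟩ := IsPGroup.iff_card.1 h1
    exact ⟨n, hn⟩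
  have hn0 : 0 < n := by
    rcases Nat.eq_zero_or_pos n with rfl | h
    · rw [pow_zero] at hn
      have := Finite.one_lt_card (α := A)
      omega
    · exact h
  have hφ1 : ∀ a, φ 1 a = a := fun a => by rw [map_one]; rfl
  have hφm : ∀ d e a, φ (d * e) a = φ d (φ e a) := fun d e a => by rw [map_mul]; rfl
  have hskew : ∀ a b, f a b = - f b a := by
    intro a b
    have h1 := halt (a + b)
    rw [map_add f a b, AddMonoidHom.add_apply, map_add, map_add, halt, halt, zero_add, add_zero] at h1
    exact eq_neg_of_add_eq_zero_left h1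
  -- the form is nondegenerate
  have hl : ∀ v, (∀ w, f v w = 0) → v = 0 := by
    let Y : AddSubgroup A :=
      { carrier := {v | ∀ w, f v w = 0}
        zero_mem' := fun w => by rw [map_zero]; rfl
        add_mem' := by
          intro a b ha hb w
          rw [map_add, AddMonoidHom.add_apply, ha, hb, add_zero]
        neg_mem' := by
          intro a ha w
          rw [map_neg, AddMonoidHom.neg_apply, ha, neg_zero] }
    have hY : ∀ v, v ∈ Y ↔ ∀ w, f v w = 0 := fun v => Iff.rfl
    rcases hirr Y (by
      intro d v hv w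
      have h1 : w = φ d (φ d⁻¹ w) := by rw [← hφm, mul_inv_cancel, hφ1]
      rw [h1, hinv]
      exact hv _) with h1 | h1
    · intro v hv
      have : v ∈ Y := hv
      rwa [h1, AddSubgroup.mem_bot] at this
    · exfalso
      apply hne
      ext v w
      have : v ∈ Y := by rw [h1]; trivial
      exact this w
  have hr : ∀ w, (∀ v, f v w = 0) → w = 0 := fun w hw => hl w fun v => by rw [hskew, hw, neg_zero]
  -- the group ring
  let Γ := MonoidAlgebra ℤ D
  let θ : Γ →+* AddMonoid.End A := (MonoidAlgebra.lift ℤ (AddMonoid.End A) D φ).toRingHom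
  have hθ : ∀ d : D, θ (MonoidAlgebra.of ℤ D d) = φ d := fun d => MonoidAlgebra.lift_of φ d
  have hθC : ∀ a b : Γ, θ a * θ b = θ b * θ a := fun a b => by rw [← map_mul, mul_comm, map_mul]
  let I : Ideal Γ := RingHom.ker θ
  have hI : ∀ a, a ∈ I ↔ θ a = 0 := fun a => RingHom.mem_ker
  have hker : ∀ a, a ∉ I → Function.Injective (θ a) := by
    intro a ha
    rw [injective_iff_map_eq_zero]
    let Y : AddSubgroup A :=
      { carrier := {y | (θ a) y = 0}
        zero_mem' := map_zero (θ a)
        add_mem' := by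
          intro x y hx hy
          change (θ a) (x + y) = 0
          have hx' : (θ a) x = 0 := hx
          have hy' : (θ a) y = 0 := hy
          rw [map_add, hx', hy', add_zero]
        neg_mem' := by
          intro x hx
          change (θ a) (-x) = 0
          have hx' : (θ a) x = 0 := hx
          rw [map_neg, hx', neg_zero] }
    have hY : ∀ y, y ∈ Y ↔ (θ a) y = 0 := fun y => Iff.rfl
    have h1 := hirr Y (fun d y hy => by
      rw [hY] at hy ⊢
      have h2 : (θ a * θ (MonoidAlgebra.of ℤ D d)) y = (θ (MonoidAlgebra.of ℤ D d) * θ a) y := by rw [hθC]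
      rw [hθ] at h2
      have h3 : (θ a) (φ d y) = φ d ((θ a) y) := h2
      rw [h3, hy, map_zero])
    rcases h1 with h1 | h1
    · intro v hv
      have : v ∈ Y := hv
      rwa [h1, AddSubgroup.mem_bot] at this
    · exfalso
      apply ha
      rw [hI]
      ext v
      have : v ∈ Y := by rw [h1]; trivial
      exact this
  have hneI : I ≠ ⊤ := by
    intro h
    have h1 : (1 : Γ) ∈ I := by rw [h]; trivial
    rw [hI, map_one] at h1
    obtain ⟨v, hv⟩ := exists_ne (0 : A)
    exact hv (congrArg (fun e : AddMonoid.End A => e v) h1)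
  have hprime : I.IsPrime := by
    refine ⟨hneI, fun {a b} hab => ?_⟩
    by_cases ha : a ∈ I
    · exact Or.inl ha
    · right
      rw [hI] at hab ⊢
      rw [map_mul] at hab
      ext v
      apply hker a ha
      change (θ a) ((θ b) v) = (θ a) 0
      rw [map_zero]
      exact congrArg (fun e : AddMonoid.End A => e v) hab
  -- the field
  haveI hfin : Finite (AddMonoid.End A) :=
    Finite.of_injective (fun e => (e : A → A)) DFunLike.coe_injective
  haveI hKfin : Finite (Γ ⧸ I) := Finite.of_injective (RingHom.kerLift θ) (RingHom.kerLift_injective θ)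
  letI : Field (Γ ⧸ I) := (Finite.isField_of_domain (Γ ⧸ I)).toField
  have hcard : Nat.card (Γ ⧸ I) = y ^ n := by
    rw [← hn]
    obtain ⟨v, hv⟩ := exists_ne (0 : A)
    let e : (Γ ⧸ I) → A := fun a => (RingHom.kerLift θ a) v
    have he : ∀ a : Γ, e (Ideal.Quotient.mk I a) = (θ a) v := fun a => rfl
    refine Nat.card_congr (Equiv.ofBijective e ⟨?_, ?_⟩)
    · intro a b hab
      obtain ⟨a, rfl⟩ := Ideal.Quotient.mk_surjective a
      obtain ⟨b, rfl⟩ := Ideal.Quotient.mk_surjective b
      rw [he, he] at hab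
      rw [Ideal.Quotient.eq]
      by_contra hcon
      have h1 := hker _ hcon
      apply hv
      apply h1
      rw [map_zero, map_sub]
      change (θ a) v - (θ b) v = 0
      rw [hab, sub_self]
    · intro w
      let Y : AddSubgroup A :=
        { carrier := {w | ∃ a : Γ, (θ a) v = w}
          zero_mem' := ⟨0, by rw [map_zero]; rfl⟩
          add_mem' := by
            rintro _ _ ⟨a, rfl⟩ ⟨b, rfl⟩
            exact ⟨a + b, by rw [map_add]; rfl⟩
          neg_mem' := by
            rintro _ ⟨a, rfl⟩
            exact ⟨-a, by rw [map_neg]; rfl⟩ }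
      have h1 := hirr Y (by
        rintro d _ ⟨a, rfl⟩
        refine ⟨MonoidAlgebra.of ℤ D d * a, ?_⟩
        rw [map_mul, hθ]
        rfl)
      rcases h1 with h1 | h1
      · exfalso
        have h2 : v ∈ Y := ⟨1, by rw [map_one]; rfl⟩
        rw [h1, AddSubgroup.mem_bot] at h2
        exact hv h2
      · have h2 : w ∈ Y := by rw [h1]; trivial
        obtain ⟨a, ha⟩ := h2
        exact ⟨Ideal.Quotient.mk I a, (he a).trans ha⟩
  -- the adjoint
  let st : Γ →+* Γ := MonoidAlgebra.mapDomainRingHom ℤ (invMonoidHom : D →* D)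
  have hst : ∀ d : D, st (MonoidAlgebra.of ℤ D d) = MonoidAlgebra.of ℤ D d⁻¹ := by
    intro d
    change MonoidAlgebra.mapDomain _ (MonoidAlgebra.single d (1 : ℤ)) = _
    rw [MonoidAlgebra.mapDomain_single]
    rfl
  have hadj : ∀ a : Γ, ∀ v w, f ((θ a) v) w = f v ((θ (st a)) w) := by
    intro a
    induction a using MonoidAlgebra.induction_on with
    | of d =>
      intro v w
      rw [hst, hθ, hθ]
      have h1 := hinv d v (φ d⁻¹ w)
      rw [← hφm, mul_inv_cancel, hφ1] at h1
      exact h1
    | add a b ha hb =>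
      intro v w
      rw [map_add, map_add, map_add]
      change f ((θ a) v + (θ b) v) w = f v ((θ (st a)) w + (θ (st b)) w)
      rw [map_add, map_add, AddMonoidHom.add_apply, ha, hb]
    | smul c a ha =>
      intro v w
      rw [map_zsmul, map_zsmul, map_zsmul]
      change f (c • (θ a) v) w = f v (c • (θ (st a)) w)
      rw [map_zsmul, map_zsmul, AddMonoidHom.zsmul_apply, ha]
  have hstst : ∀ a : Γ, st (st a) = a := by
    intro a
    have h1 : st.comp st = RingHom.id Γ := by
      apply MonoidAlgebra.ringHom_ext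
      · intro r
        change st (st _) = _
        change st (MonoidAlgebra.mapDomain _ (MonoidAlgebra.single 1 r)) = _
        rw [MonoidAlgebra.mapDomain_single]
        change MonoidAlgebra.mapDomain _ (MonoidAlgebra.single _ r) = _
        rw [MonoidAlgebra.mapDomain_single]
        simp
        rfl
      · intro d
        change st (st (MonoidAlgebra.of ℤ D d)) = MonoidAlgebra.of ℤ D d
        rw [hst, hst, inv_inv]
    exact RingHom.congr_fun h1 a
  have hstI : ∀ a, a ∈ I → (Ideal.Quotient.mk I).comp st a = 0 := by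
    intro a ha
    change Ideal.Quotient.mk I (st a) = 0
    rw [Ideal.Quotient.eq_zero_iff_mem, hI]
    rw [hI] at ha
    ext w
    apply hr
    intro v
    rw [← hadj, ha]
    change f 0 w = 0
    rw [map_zero]
    rfl
  let σ : (Γ ⧸ I) →+* (Γ ⧸ I) := Ideal.Quotient.lift I ((Ideal.Quotient.mk I).comp st) hstI
  have hσ1 : ∀ a, σ (Ideal.Quotient.mk I a) = Ideal.Quotient.mk I (st a) := fun a => rfl
  obtain ⟨i, hi, hσ⟩ := Cfsg.Agent.H161.PalForm.frob hy hcard σ
  -- `D` in the field
  let ι : D →* (Γ ⧸ I) := (Ideal.Quotient.mk I : Γ →* (Γ ⧸ I)).comp (MonoidAlgebra.of ℤ D)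
  have hι : ∀ d, ι d = Ideal.Quotient.mk I (MonoidAlgebra.of ℤ D d) := fun d => rfl
  have hιinj : Function.Injective ι := by
    intro d e hde
    rw [hι, hι, Ideal.Quotient.eq, hI, map_sub, hθ, hθ, sub_eq_zero] at hde
    exact hinj hde
  have hpow : ∀ d : D, d ^ (y ^ i + 1) = 1 := by
    intro d
    apply hιinj
    have h1 := hσ (ι d)
    rw [hι d, hσ1, hst, ← hι, ← hι] at h1
    rw [pow_succ, map_mul, map_pow, ← h1, ← map_mul, inv_mul_cancel]
  have hcyc : IsCyclic D := isCyclic_of_injective_ringHom ι hιinj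
  have hcardD : Nat.card D ∣ y ^ i + 1 := by
    obtain ⟨g, hg⟩ := hcyc.exists_generator
    rw [← orderOf_eq_card_of_forall_mem_zpowers hg]
    exact orderOf_dvd_of_pow_eq_one (hpow g)
  have hσσ : ∀ x : Γ ⧸ I, x ^ y ^ (i + i) = x := by
    intro x
    obtain ⟨a, rfl⟩ := Ideal.Quotient.mk_surjective x
    have h1 : σ (σ (Ideal.Quotient.mk I a)) = Ideal.Quotient.mk I a := by
      rw [hσ1, hσ1, hstst]
    rw [hσ, hσ, ← pow_mul, ← pow_add] at h1
    exact h1
  -- `n ∣ 2 i`
  have hn2 : n ∣ i + i := by
    letI := Fintype.ofFinite (Γ ⧸ I)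
    obtain ⟨x, hx⟩ := IsCyclic.exists_generator (α := (Γ ⧸ I)ˣ)
    have h1 := orderOf_eq_card_of_forall_mem_zpowers hx
    rw [Nat.card_eq_fintype_card, Fintype.card_units, ← Nat.card_eq_fintype_card, hcard] at h1
    have h2 : x ^ (y ^ (i + i) - 1) = 1 := by
      have h3 : x ^ (y ^ (i + i)) = x := Units.ext (by rw [Units.val_pow_eq_pow_val]; exact hσσ x)
      have h4 : y ^ (i + i) - 1 + 1 = y ^ (i + i) := Nat.sub_add_cancel (Nat.one_le_pow _ _ hy.pos)
      rw [← h4, pow_succ] at h3
      exact mul_eq_right.1 h3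
    have h3 := orderOf_dvd_of_pow_eq_one h2
    rw [h1] at h3
    have h4 := Nat.pow_sub_one_gcd_pow_sub_one y n (i + i)
    rw [Nat.gcd_eq_left h3] at h4
    have h5 : y ^ n = y ^ (n.gcd (i + i)) := by
      have e1 : 1 ≤ y ^ n := Nat.one_le_pow _ _ hy.pos
      have e2 : 1 ≤ y ^ (n.gcd (i + i)) := Nat.one_le_pow _ _ hy.pos
      omega
    have h6 := Nat.pow_right_injective hy.two_le h5
    exact Nat.gcd_eq_left_iff_dvd.1 h6.symm
  rcases Nat.eq_zero_or_pos i with rfl | hi0
  · -- `D` acts by `± 1`
    exfalso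
    have hpm : ∀ d : D, ι d = 1 ∨ ι d = -1 := by
      intro d
      have h1 := hpow d
      rw [pow_zero] at h1
      have h2 : ι d * ι d = 1 := by rw [← map_mul, ← pow_two, h1, map_one]
      exact mul_self_eq_one_iff.1 h2
    have hpm' : ∀ d : D, (∀ a, φ d a = a) ∨ ∀ a, φ d a = -a := by
      intro d
      rcases hpm d with h1 | h1
      · left
        intro a
        have h2 : d = 1 := hιinj (by rw [h1, map_one])
        rw [h2, hφ1]
      · right
        intro a
        have h2 : Ideal.Quotient.mk I (MonoidAlgebra.of ℤ D d + 1) = 0 := by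
          rw [map_add, ← hι, h1, map_one, neg_add_cancel]
        rw [Ideal.Quotient.eq_zero_iff_mem, hI, map_add, hθ, map_one] at h2
        have h3 : φ d a + a = 0 := congrArg (fun e : AddMonoid.End A => e a) h2
        exact eq_neg_of_add_eq_zero_left h3
    obtain ⟨v, hv⟩ := exists_ne (0 : A)
    have h1 : AddSubgroup.zmultiples v = ⊤ := by
      refine (hirr (AddSubgroup.zmultiples v) ?_).resolve_left ?_
      · intro d w hw
        rcases hpm' d with h1 | h1
        · rwa [h1]
        · rw [h1]; exact neg_mem hw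
      · rw [AddSubgroup.zmultiples_eq_bot]; exact hv
    apply hne
    ext a b
    have ha : a ∈ AddSubgroup.zmultiples v := by rw [h1]; trivial
    have hb : b ∈ AddSubgroup.zmultiples v := by rw [h1]; trivial
    obtain ⟨j, rfl⟩ := AddSubgroup.mem_zmultiples_iff.1 ha
    obtain ⟨k, rfl⟩ := AddSubgroup.mem_zmultiples_iff.1 hb
    rw [map_zsmul, map_zsmul, AddMonoidHom.zsmul_apply, halt, smul_zero, smul_zero]
    rfl
  · refine ⟨i, ?_, hcardD⟩
    obtain ⟨t, ht⟩ := hn2
    have : t = 1 := by
      rcases Nat.lt_or_ge t 2 with h | h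
      · interval_cases t
        · omega
        · rfl
      · have : n * 2 ≤ n * t := Nat.mul_le_mul_left _ h
        omega
    rw [hn]
    congr 1
    rw [this] at ht
    omega

theorem symp {D : Type u} [CommGroup D] [Finite D] {X : Type v} [CommGroup X] [Finite X] [Nontrivial X]
    [MulDistribMulAction D X] {y : ℕ} [Fact y.Prime] (hX : ∀ x : X, x ^ y = 1)
    (hf : ∀ d : D, (∀ x : X, d • x = x) → d = 1)
    (hirr : ∀ W : Subgroup X, (∀ d : D, ∀ w ∈ W, d • w ∈ W) → W = ⊥ ∨ W = ⊤)
    (f : X →* X →* ℂˣ) (halt : ∀ x, f x x = 1)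
    (hinv : ∀ (d : D) (x x' : X), f (d • x) (d • x') = f x x') (hne : f ≠ 1) :
    ∃ k : ℕ, Nat.card X = y ^ (2 * k) ∧ Nat.card D ∣ y ^ k + 1 := by
  let φ : D →* AddMonoid.End (Additive X) :=
    { toFun := fun d => MonoidHom.toAdditive (MulDistribMulAction.toMonoidHom X d)
      map_one' := by
        ext x
        change Additive.ofMul ((1 : D) • x.toMul) = x
        rw [one_smul]; rfl
      map_mul' := by
        intro d e
        ext x
        change Additive.ofMul ((d * e) • x.toMul) = Additive.ofMul (d • (e • x.toMul))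
        rw [mul_smul] }
  have hφ : ∀ d (x : X), φ d (Additive.ofMul x) = Additive.ofMul (d • x) := fun d x => rfl
  let F : Additive X →+ Additive X →+ Additive ℂˣ := AddMonoidHom.mk' (fun a => AddMonoidHom.mk'
      (fun b => Additive.ofMul (f a.toMul b.toMul)) (by
        intro b b'
        rw [← ofMul_mul, ← map_mul]
        rfl)) (by
      intro a a'
      refine AddMonoidHom.ext fun b => ?_
      change Additive.ofMul (f (a.toMul * a'.toMul) b.toMul) = Additive.ofMul (f a.toMul b.toMul * f a'.toMul b.toMul)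
      rw [map_mul]
      rfl)
  refine add_symp (A := Additive X) (y := y) Fact.out (fun a => congrArg Additive.ofMul (hX a.toMul)) φ
    ?_ ?_ F (fun a => congrArg Additive.ofMul (halt a.toMul))
    (fun d a b => congrArg Additive.ofMul (hinv d a.toMul b.toMul)) ?_
  · intro d e hde
    rw [← mul_inv_eq_one]
    apply hf
    intro x
    have h1 : ∀ x : X, d • x = e • x := fun x => by
      have := congrArg (fun g : AddMonoid.End (Additive X) => g (Additive.ofMul x)) hde
      exact this
    rw [mul_smul, h1, smul_inv_smul]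
  · intro W hW
    let W' : Subgroup X :=
      { carrier := {x | Additive.ofMul x ∈ W}
        one_mem' := W.zero_mem
        mul_mem' := fun {a b} ha hb => W.add_mem ha hb
        inv_mem' := fun {a} ha => W.neg_mem ha }
    rcases hirr W' (fun d w hw => hW d _ hw) with h1 | h1
    · left
      rw [eq_bot_iff]
      intro x hx
      have h2 : x.toMul ∈ W' := hx
      rw [h1, Subgroup.mem_bot] at h2
      exact h2
    · right
      rw [eq_top_iff]
      intro x _
      have h2 : x.toMul ∈ W' := by rw [h1]; trivial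
      exact h2
  · intro h0
    apply hne
    ext a b
    have h1 : F (Additive.ofMul a) (Additive.ofMul b) = 0 := by rw [h0]; rfl
    have h2 : f a b = 1 := h1
    rw [h2]
    rfl

end Cfsg.Agent.H734.Symp
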